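import Mathlib

/-!
# An algebra lemma for sections of `F ⊗_A M` (helper85)

If `j : M → P` exhibits the `R`-module `P` as the base change `R ⊗[A] M`, then for every `R`-module
`N` the map `N ⊗[A] M → P ⊗[R] N`, `n ⊗ m ↦ j m ⊗ n`, is bijective.
-/

set_option autoImplicit false

namespace Groth.Agent.H85.BC

open TensorProduct

variable {A R : Type*} [CommRing A] [CommRing R] [Algebra A R]
  {M N P : Type*} [AddCommGroup M] [Module A M] [AddCommGroup N] [Module A N] [Module R N]
  [IsScalarTower A R N] [AddCommGroup P] [Module A P] [Module R P] [IsScalarTower A R P]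

/-- the map `R ⊗[A] M → P`, `r ⊗ m ↦ r • j m` -/
noncomputable def baseChangeLift (j : M →ₗ[A] P) : R ⊗[A] M →ₗ[R] P :=
  TensorProduct.AlgebraTensorModule.lift
    { toFun := fun r => r • j
      map_add' := fun r s => add_smul r s j
      map_smul' := fun r s => by
        rw [RingHom.id_apply, smul_eq_mul, mul_smul] }

theorem baseChangeLift_tmul (j : M →ₗ[A] P) (r : R) (m : M) :
    baseChangeLift j (r ⊗ₜ[A] m) = r • j m := rfl

/-- the map `N ⊗[A] M → P ⊗[R] N`, `n ⊗ m ↦ j m ⊗ n` -/
noncomputable def swapLift (j : M →ₗ[A] P) : N ⊗[A] M →ₗ[A] P ⊗[R] N :=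
  TensorProduct.lift
    { toFun := fun n =>
        { toFun := fun m => j m ⊗ₜ[R] n
          map_add' := fun m m' => by rw [map_add, add_tmul]
          map_smul' := fun a m => by
            rw [map_smul, RingHom.id_apply, smul_tmul'] }
      map_add' := fun n n' => by
        ext m
        exact tmul_add _ _ _
      map_smul' := fun a n => by
        ext m
        change j m ⊗ₜ[R] (a • n) = a • (j m ⊗ₜ[R] n)
        rw [← algebraMap_smul R a n, tmul_smul, algebraMap_smul] }

theorem swapLift_tmul (j : M →ₗ[A] P) (n : N) (m : M) :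
    swapLift (R := R) j (n ⊗ₜ[A] m) = j m ⊗ₜ[R] n := rfl

theorem swapLift_bijective (j : M →ₗ[A] P)
    (hj : Function.Bijective (baseChangeLift (R := R) j)) :
    Function.Bijective (swapLift (R := R) (N := N) j) := by
  let e₁ : R ⊗[A] M ≃ₗ[R] P := LinearEquiv.ofBijective (baseChangeLift j) hj
  let e₂ : N ⊗[R] (R ⊗[A] M) ≃ₗ[R] N ⊗[A] M :=
    TensorProduct.AlgebraTensorModule.cancelBaseChange A R R N M
  let e₃ : N ⊗[R] (R ⊗[A] M) ≃ₗ[R] N ⊗[R] P := TensorProduct.congr (LinearEquiv.refl R N) e₁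
  let e₄ : N ⊗[R] P ≃ₗ[R] P ⊗[R] N := TensorProduct.comm R N P
  let e : N ⊗[A] M ≃+ P ⊗[R] N :=
    (e₂.symm.toAddEquiv.trans e₃.toAddEquiv).trans e₄.toAddEquiv
  have h : ∀ x, swapLift (R := R) (N := N) j x = e x := by
    intro x
    induction x using TensorProduct.induction_on with
    | zero => rw [map_zero, map_zero]
    | tmul n m =>
      rw [swapLift_tmul]
      change _ = e₄ (e₃ (e₂.symm (n ⊗ₜ[A] m)))
      have h2 : e₂.symm (n ⊗ₜ[A] m) = n ⊗ₜ[R] ((1 : R) ⊗ₜ[A] m) := by
        rw [LinearEquiv.symm_apply_eq]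
        exact (TensorProduct.AlgebraTensorModule.cancelBaseChange_tmul A R R n m 1).symm ▸ (by
          rw [one_smul])
      rw [h2]
      change _ = e₄ (n ⊗ₜ[R] (e₁ ((1 : R) ⊗ₜ[A] m)))
      have h3 : e₁ ((1 : R) ⊗ₜ[A] m) = j m := by
        change baseChangeLift j ((1 : R) ⊗ₜ[A] m) = j m
        rw [baseChangeLift_tmul, one_smul]
      rw [h3]
      rfl
    | add x y hx hy => rw [map_add, map_add, hx, hy]
  have : (swapLift (R := R) (N := N) j : N ⊗[A] M → P ⊗[R] N) = e := funext h
  rw [this]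
  exact e.bijective

end Groth.Agent.H85.BC
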