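import Mathlib

/-!
# The Čech complex functor commutes with additive functors preserving the relevant products

(helper85, base change chain)  For a family `U : ι → C` in a category with finite products, a
presheaf `P : Cᵒᵖ ⥤ 𝒜` and an additive functor `G : 𝒜 ⥤ ℬ` there is a canonical morphism of
cochain complexes `G(Č(U, P)) ⟶ Č(U, P ⋙ G)`, which is an isomorphism as soon as `G` preserves the
products indexed by `Fin (n + 1) → ι` (e.g. `ι` finite and `G` additive between categories with
finite biproducts).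
-/

set_option autoImplicit false

namespace Groth.Agent.H85.BC

open CategoryTheory Limits Opposite

universe w v v' v'' u u' u''

variable {C : Type u} [Category.{v} C] [HasFiniteProducts C] {ι : Type w} (U : ι → C)

section Explicit

variable {𝒜 : Type u'} [Category.{v'} 𝒜] [HasProducts.{w} 𝒜] [Preadditive 𝒜] (P : Cᵒᵖ ⥤ 𝒜)

/-- the object attached to a tuple: the chosen categorical product -/
noncomputable abbrev cechObj {n : ℕ} (i : Fin (n + 1) → ι) : C := ∏ᶜ (U ∘ i)

/-- the face morphism -/
noncomputable def face {n : ℕ} (i : Fin (n + 2) → ι) (j : Fin (n + 2)) :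
    cechObj U i ⟶ cechObj U (i ∘ j.succAbove) :=
  Pi.lift (fun a => Pi.π (U ∘ i) (j.succAbove a))

/-- the cosimplicial object -/
noncomputable abbrev Y : CosimplicialObject 𝒜 :=
  (FormalCoproduct.cosimplicialObjectFunctor (FormalCoproduct.mk ι U).cech).obj P

/-- Mathlib's Čech complex -/
noncomputable abbrev K : CochainComplex 𝒜 ℕ := (cechComplexFunctor U).obj P

/-- component projection -/
noncomputable def proj (n : ℕ) (i : Fin (n + 1) → ι) : (K U P).X n ⟶ P.obj (op (cechObj U i)) :=
  Pi.π (fun i : Fin (n + 1) → ι => P.obj (op (cechObj U i))) i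

/-- component projection, cosimplicial form -/
noncomputable def projY (n : ℕ) (i : Fin (n + 1) → ι) :
    (Y U P).obj (SimplexCategory.mk n) ⟶ P.obj (op (cechObj U i)) :=
  Pi.π (fun i : Fin (n + 1) → ι => P.obj (op (cechObj U i))) i

theorem δ_projY (n : ℕ) (j : Fin (n + 2)) (i : Fin (n + 2) → ι) :
    (Y U P).δ j ≫ projY U P (n + 1) i =
      projY U P n (i ∘ j.succAbove) ≫ P.map (face U i j).op := by
  change Pi.lift _ ≫ Pi.π _ i = _
  refine (Pi.lift_π _ i).trans ?_
  rfl

theorem d_eq (n : ℕ) : (K U P).d n (n + 1) =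
    ∑ j : Fin (n + 2), (-1 : ℤ) ^ (j : ℕ) • (Y U P).δ j :=
  CochainComplex.of_d (fun n => (Y U P).obj (SimplexCategory.mk n))
    (AlgebraicTopology.AlternatingCofaceMapComplex.objD (Y U P)) n

theorem d_proj (n : ℕ) (i : Fin (n + 2) → ι) :
    (K U P).d n (n + 1) ≫ proj U P (n + 1) i =
      ∑ j : Fin (n + 2), (-1 : ℤ) ^ (j : ℕ) •
        (proj U P n (i ∘ j.succAbove) ≫ P.map (face U i j).op) := by
  rw [d_eq]
  change (∑ j : Fin (n + 2), (-1 : ℤ) ^ (j : ℕ) • (Y U P).δ j) ≫ projY U P (n + 1) i = _
  rw [Preadditive.sum_comp]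
  refine Finset.sum_congr rfl (fun j _ => ?_)
  rw [Preadditive.zsmul_comp, δ_projY]
  rfl

theorem hom_ext_K {n : ℕ} {Z : 𝒜} (f g : Z ⟶ (K U P).X n)
    (h : ∀ i : Fin (n + 1) → ι, f ≫ proj U P n i = g ≫ proj U P n i) : f = g :=
  Pi.hom_ext _ _ h

/-- a morphism of presheaves acts componentwise on Čech cochains -/
theorem map_proj {P Q : Cᵒᵖ ⥤ 𝒜} (θ : P ⟶ Q) (n : ℕ) (i : Fin (n + 1) → ι) :
    ((cechComplexFunctor U).map θ).f n ≫ proj U Q n i =
      proj U P n i ≫ θ.app (op (cechObj U i)) := by
  exact Limits.Pi.map_π (fun i : Fin (n + 1) → ι => θ.app (op (cechObj U i))) i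

end Explicit

section Comparison

variable {𝒜 : Type u'} [Category.{v'} 𝒜] [HasProducts.{w} 𝒜] [Preadditive 𝒜]
  {ℬ : Type u''} [Category.{v''} ℬ] [HasProducts.{w} ℬ] [Preadditive ℬ]
  (G : 𝒜 ⥤ ℬ) [G.Additive] (P : Cᵒᵖ ⥤ 𝒜)

/-- degreewise comparison `G(∏ P(U_i)) ⟶ ∏ G(P(U_i))` -/
noncomputable def compX (n : ℕ) : G.obj ((K U P).X n) ⟶ (K U (P ⋙ G)).X n :=
  Pi.lift (fun i : Fin (n + 1) → ι => G.map (proj U P n i))

theorem compX_proj (n : ℕ) (i : Fin (n + 1) → ι) :
    compX U G P n ≫ proj U (P ⋙ G) n i = G.map (proj U P n i) :=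
  Pi.lift_π _ _

theorem compX_eq_piComparison (n : ℕ) :
    compX U G P n = piComparison G (fun i : Fin (n + 1) → ι => P.obj (op (cechObj U i))) := rfl

instance isIso_compX [Finite ι] (n : ℕ) : IsIso (compX U G P n) := by
  rw [compX_eq_piComparison]
  have : PreservesFiniteProducts G := inferInstance
  have : PreservesLimitsOfShape (Discrete (Fin (n + 1) → ι)) G := inferInstance
  have : PreservesLimit (Discrete.functor
      (fun i : Fin (n + 1) → ι => P.obj (op (cechObj U i)))) G := inferInstance
  rw [← PreservesProduct.iso_hom]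
  infer_instance

/-- The canonical comparison `G(Č(U, P)) ⟶ Č(U, P ⋙ G)`. -/
noncomputable def comparison :
    (G.mapHomologicalComplex (ComplexShape.up ℕ)).obj (K U P) ⟶ K U (P ⋙ G) where
  f n := compX U G P n
  comm' n m h := by
    obtain rfl : n + 1 = m := h
    apply hom_ext_K
    intro i
    have h1 : (compX U G P n ≫ (K U (P ⋙ G)).d n (n + 1)) ≫ proj U (P ⋙ G) (n + 1) i =
        (G.map ((K U P).d n (n + 1)) ≫ compX U G P (n + 1)) ≫ proj U (P ⋙ G) (n + 1) i := by
      rw [Category.assoc, Category.assoc, compX_proj, d_proj, ← G.map_comp, d_proj, G.map_sum,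
        Preadditive.comp_sum]
      refine Finset.sum_congr rfl (fun j _ => ?_)
      rw [G.map_zsmul, Preadditive.comp_zsmul, G.map_comp, ← Category.assoc, compX_proj]
      rfl
    exact h1

@[simp] theorem comparison_f (n : ℕ) : (comparison U G P).f n = compX U G P n := rfl

instance isIso_comparison [Finite ι] : IsIso (comparison U G P) := by
  have : ∀ n, IsIso ((comparison U G P).f n) := fun n => isIso_compX U G P n
  exact HomologicalComplex.Hom.isIso_of_components _

/-- The comparison as an isomorphism, for a finite family. -/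
noncomputable def comparisonIso [Finite ι] :
    (G.mapHomologicalComplex (ComplexShape.up ℕ)).obj (K U P) ≅ K U (P ⋙ G) :=
  asIso (comparison U G P)

/-- naturality of the comparison in the presheaf -/
theorem comparison_naturality {P Q : Cᵒᵖ ⥤ 𝒜} (θ : P ⟶ Q) :
    (G.mapHomologicalComplex (ComplexShape.up ℕ)).map ((cechComplexFunctor U).map θ) ≫
        comparison U G Q =
      comparison U G P ≫ (cechComplexFunctor U).map (Functor.whiskerRight θ G) := by
  ext n : 1
  apply hom_ext_K
  intro i
  have h1 : (G.map (((cechComplexFunctor U).map θ).f n) ≫ compX U G Q n) ≫ proj U (Q ⋙ G) n i =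
      (compX U G P n ≫ ((cechComplexFunctor U).map (Functor.whiskerRight θ G)).f n) ≫
        proj U (Q ⋙ G) n i := by
    rw [Category.assoc, Category.assoc, compX_proj, ← G.map_comp, map_proj, map_proj,
      ← Category.assoc, compX_proj, G.map_comp]
    rfl
  exact h1

/-- naturality of the comparison in the functor -/
theorem comparison_naturality_functor {G G' : 𝒜 ⥤ ℬ} [G.Additive] [G'.Additive] (τ : G ⟶ G')
    (P : Cᵒᵖ ⥤ 𝒜) :
    (NatTrans.mapHomologicalComplex τ (ComplexShape.up ℕ)).app (K U P) ≫ comparison U G' P =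
      comparison U G P ≫ (cechComplexFunctor U).map (Functor.whiskerLeft P τ) := by
  ext n : 1
  apply hom_ext_K
  intro i
  have h1 : (τ.app ((K U P).X n) ≫ compX U G' P n) ≫ proj U (P ⋙ G') n i =
      (compX U G P n ≫ ((cechComplexFunctor U).map (Functor.whiskerLeft P τ)).f n) ≫
        proj U (P ⋙ G') n i := by
    rw [Category.assoc, Category.assoc, compX_proj, map_proj, ← Category.assoc, compX_proj]
    exact (τ.naturality (proj U P n i)).symm
  exact h1

end Comparison

section IsoOfIso

variable {𝒜 : Type u'} [Category.{v'} 𝒜] [HasProducts.{w} 𝒜] [Preadditive 𝒜]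

/-- A morphism of presheaves which is an isomorphism on all the objects `cechObj U i` induces an
isomorphism of Čech complexes. -/
theorem isIso_cech_map {P Q : Cᵒᵖ ⥤ 𝒜} (θ : P ⟶ Q)
    (h : ∀ (n : ℕ) (i : Fin (n + 1) → ι), IsIso (θ.app (op (cechObj U i)))) :
    IsIso ((cechComplexFunctor U).map θ) := by
  have : ∀ n, IsIso (((cechComplexFunctor U).map θ).f n) := fun n => by
    have := h n
    change IsIso (Limits.Pi.map (fun i : Fin (n + 1) → ι => θ.app (op (cechObj U i))))
    infer_instance
  exact HomologicalComplex.Hom.isIso_of_components _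

end IsoOfIso

end Groth.Agent.H85.BC
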