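import Groth.Agent.H85.BC.SecTensor
import Groth.Agent.H85.BC.CechFunctor
import Groth.Agent.H43.LerayLin5

/-!
# The `A`-linear Čech complex of `F` and its tensor products (helper85, base-change chain)

For a scheme `X` over `Spec A`, an `O_X`-module `F` and a finite family `U` of opens with affine
finite intersections, `cechLin A U F` is the Čech complex of `F` as a complex of `A`-modules.  For
quasi-coherent `F` we construct an isomorphism of complexes
`cechLin A U F ⊗_A M ≅ cechLin A U (f^*(M~) ⊗ F)`, natural in `M`, and the resulting natural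
isomorphism between `M ↦ H^p(cechLin A U F ⊗ M)` and the Čech cohomology of `f^*(M~) ⊗ F`.
-/

set_option autoImplicit false
universe u
open CategoryTheory Limits AlgebraicGeometry TopologicalSpace Opposite TensorProduct MonoidalCategory
open Groth.Agent.H43.LerayLin (famTop)

namespace Groth.Agent.H85.BC

variable (A : Type u) [CommRing A] {X : Scheme.{u}} [X.Over (Spec (CommRingCat.of A))]
  (F : X.Modules) {ι : Type u} (U : ι → X.Opens)

/-- the forgetful functor from opens over `⊤` -/
abbrev fgt (X : Scheme.{u}) : (Over (⊤ : X.Opens))ᵒᵖ ⥤ (Opens X)ᵒᵖ := (Over.forget (⊤ : X.Opens)).op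

/-- the family of opens over `⊤` -/
abbrev famY : ι → Over (⊤ : X.Opens) := famTop (X := X.toTopCat) U

/-- the `A`-linear Čech complex of `G` -/
noncomputable def cechLin (G : X.Modules) : CochainComplex (ModuleCat.{u} A) ℕ :=
  (cechComplexFunctor (famY U)).obj (fgt X ⋙ secFunctor A G)

/-- functoriality of the `A`-linear Čech complex -/
noncomputable def cechLinMap {G G' : X.Modules} (ψ : G ⟶ G') : cechLin A U G ⟶ cechLin A U G' :=
  (cechComplexFunctor (famY U)).map (Functor.whiskerLeft (fgt X) (secFunctorMap A ψ))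

section Alpha

variable (M : ModuleCat.{u} A)

/-- `θ` on the opens over `⊤` -/
noncomputable def thetaW :
    (fgt X ⋙ secFunctor A F) ⋙ tensorRight M ⟶ fgt X ⋙ secFunctor A (GM A F M) :=
  Functor.whiskerLeft (fgt X) (thetaNat A F M)

theorem thetaW_app (Z : (Over (⊤ : X.Opens))ᵒᵖ) :
    (thetaW A F M).app Z = ModuleCat.ofHom (theta A F M Z.unop.left) := rfl

/-- the comparison `Č(U, F) ⊗ M ⟶ Č(U, f^*(M~) ⊗ F)` -/
noncomputable def alphaHom : CohIII.tensorObj (cechLin A U F) M ⟶ cechLin A U (GM A F M) :=
  comparison (famY U) (tensorRight M) (fgt X ⋙ secFunctor A F) ≫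
    (cechComplexFunctor (famY U)).map (thetaW A F M)

variable {M} in
theorem thetaW_naturality {N : ModuleCat.{u} A} (g : M ⟶ N) :
    Functor.whiskerLeft (fgt X ⋙ secFunctor A F) ((tensoringRight (ModuleCat.{u} A)).map g) ≫
        thetaW A F N =
      thetaW A F M ≫ Functor.whiskerLeft (fgt X) (secFunctorMap A (GMmap A F g)) := by
  ext Z : 2
  apply ModuleCat.hom_ext
  apply LinearMap.ext
  intro x
  exact (theta_naturality A F g Z.unop.left x).symm

variable {M} in
theorem alphaHom_naturality {N : ModuleCat.{u} A} (g : M ⟶ N) :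
    CohIII.tensorMap (cechLin A U F) g ≫ alphaHom A F U N =
      alphaHom A F U M ≫ cechLinMap A U (GMmap A F g) := by
  have h1 := comparison_naturality_functor (famY U)
    ((tensoringRight (ModuleCat.{u} A)).map g) (fgt X ⋙ secFunctor A F)
  have h2 := congrArg (fun θ => (cechComplexFunctor (famY U)).map θ) (thetaW_naturality A F g)
  simp only [Functor.map_comp] at h2
  unfold alphaHom cechLinMap CohIII.tensorMap
  rw [← Category.assoc]
  refine (congrArg (fun φ => φ ≫ (cechComplexFunctor (famY U)).map (thetaW A F N)) h1).trans ?_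
  rw [Category.assoc, Category.assoc]
  exact congrArg (fun φ => _ ≫ φ) h2

end Alpha

section AlphaIso

variable [Finite ι] [F.IsQuasicoherent]
  (hA : ∀ (p : ℕ) (σ : Fin (p + 1) → ι), IsAffineOpen (⨅ k, U (σ k)))
  (M : ModuleCat.{u} A)

include hA in
theorem isIso_alphaHom : IsIso (alphaHom A F U M) := by
  have h2 : IsIso ((cechComplexFunctor (famY U)).map (thetaW A F M)) := by
    apply isIso_cech_map
    intro n i
    have hleft : (cechObj (famY U) i).left = ⨅ k, U (i k) :=
      Groth.Agent.H43.LerayLin.pi_left_eq (fun k => famTop (X := X.toTopCat) U (i k))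
    have haff : IsAffineOpen ((cechObj (famY U) i).left) := by
      rw [hleft]; exact hA n i
    rw [thetaW_app]
    exact (ConcreteCategory.isIso_iff_bijective _).mpr (theta_bijective A F M haff)
  have h1 : IsIso (comparison (famY U) (tensorRight M) (fgt X ⋙ secFunctor A F)) :=
    isIso_comparison (famY U) (tensorRight M) (fgt X ⋙ secFunctor A F)
  unfold alphaHom
  exact @IsIso.comp_isIso _ _ _ _ _ _ _ h1 h2

/-- the isomorphism `Č(U, F) ⊗ M ≅ Č(U, f^*(M~) ⊗ F)` -/
noncomputable def alphaIso : CohIII.tensorObj (cechLin A U F) M ≅ cechLin A U (GM A F M) :=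
  haveI := isIso_alphaHom A F U hA M
  asIso (alphaHom A F U M)

theorem alphaIso_hom : (alphaIso A F U hA M).hom = alphaHom A F U M := rfl

end AlphaIso

section Beta

variable [Finite ι] (G : X.Modules)

/-- the underlying complex of abelian groups of `cechLin` is the Čech complex of the underlying
presheaf -/
noncomputable def betaIso :
    ((forget₂ (ModuleCat.{u} A) AddCommGrpCat.{u}).mapHomologicalComplex _).obj (cechLin A U G) ≅
      (CechEdge.cxFunctor (famY U)).obj G.presheaf :=
  comparisonIso (famY U) (forget₂ (ModuleCat.{u} A) AddCommGrpCat.{u}) (fgt X ⋙ secFunctor A G) ≪≫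
    (cechComplexFunctor (famY U)).mapIso (Functor.isoWhiskerLeft (fgt X) (secFunctorForget A G))

variable {G} in
theorem betaIso_naturality {G' : X.Modules} (ψ : G ⟶ G') :
    ((forget₂ (ModuleCat.{u} A) AddCommGrpCat.{u}).mapHomologicalComplex _).map
        (cechLinMap A U ψ) ≫ (betaIso A U G').hom =
      (betaIso A U G).hom ≫ (CechEdge.cxFunctor (famY U)).map ψ.mapPresheaf := by
  have h1 := comparison_naturality (famY U) (forget₂ (ModuleCat.{u} A) AddCommGrpCat.{u})
    (Functor.whiskerLeft (fgt X) (secFunctorMap A ψ))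
  have h3 : Functor.whiskerRight (Functor.whiskerLeft (fgt X) (secFunctorMap A ψ))
        (forget₂ (ModuleCat.{u} A) AddCommGrpCat.{u}) ≫
        (Functor.isoWhiskerLeft (fgt X) (secFunctorForget A G')).hom =
      (Functor.isoWhiskerLeft (fgt X) (secFunctorForget A G)).hom ≫
        Functor.whiskerLeft (fgt X) ψ.mapPresheaf := by
    ext Z : 2
    rfl
  have h2 := congrArg (fun θ => (cechComplexFunctor (famY U)).map θ) h3
  simp only [Functor.map_comp] at h2
  unfold betaIso cechLinMap
  simp only [Iso.trans_hom, Functor.mapIso_hom]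
  rw [← Category.assoc]
  refine (congrArg (fun φ => φ ≫ (cechComplexFunctor (famY U)).map
    (Functor.isoWhiskerLeft (fgt X) (secFunctorForget A G')).hom) h1).trans ?_
  rw [Category.assoc, Category.assoc]
  exact congrArg (fun φ => _ ≫ φ) h2

end Beta

section Assembly

variable [Finite ι] [F.IsQuasicoherent]
  (hA : ∀ (p : ℕ) (σ : Fin (p + 1) → ι), IsAffineOpen (⨅ k, U (σ k)))

/-- the complex-level comparison, in abelian groups -/
noncomputable def gammaIso (M : ModuleCat.{u} A) :
    ((forget₂ (ModuleCat.{u} A) AddCommGrpCat.{u}).mapHomologicalComplex _).obj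
        (CohIII.tensorObj (cechLin A U F) M) ≅
      (CechEdge.cxFunctor (famY U)).obj (GM A F M).presheaf :=
  ((forget₂ (ModuleCat.{u} A) AddCommGrpCat.{u}).mapHomologicalComplex _).mapIso
      (alphaIso A F U hA M) ≪≫ betaIso A U (GM A F M)

theorem gammaIso_naturality {M N : ModuleCat.{u} A} (g : M ⟶ N) :
    ((forget₂ (ModuleCat.{u} A) AddCommGrpCat.{u}).mapHomologicalComplex _).map
        (CohIII.tensorMap (cechLin A U F) g) ≫ (gammaIso A F U hA N).hom =
      (gammaIso A F U hA M).hom ≫
        (CechEdge.cxFunctor (famY U)).map (GMmap A F g).mapPresheaf := by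
  unfold gammaIso
  simp only [Iso.trans_hom, Functor.mapIso_hom, alphaIso_hom]
  rw [← Category.assoc, ← Functor.map_comp, alphaHom_naturality, Functor.map_comp, Category.assoc,
    betaIso_naturality, Category.assoc]

/-- the comparison on cohomology -/
noncomputable def homIso (p : ℕ) (M : ModuleCat.{u} A) :
    (forget₂ (ModuleCat.{u} A) AddCommGrpCat.{u}).obj
        ((CohIII.tensorObj (cechLin A U F) M).homology p) ≅
      ((CechEdge.cxFunctor (famY U)).obj (GM A F M).presheaf).homology p :=
  (((CohIII.tensorObj (cechLin A U F) M).sc p).mapHomologyIso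
      (forget₂ (ModuleCat.{u} A) AddCommGrpCat.{u})).symm ≪≫
    (HomologicalComplex.homologyFunctor _ _ p).mapIso (gammaIso A F U hA M)

theorem homIso_naturality (p : ℕ) {M N : ModuleCat.{u} A} (g : M ⟶ N) :
    (forget₂ (ModuleCat.{u} A) AddCommGrpCat.{u}).map
        (HomologicalComplex.homologyMap (CohIII.tensorMap (cechLin A U F) g) p) ≫
        (homIso A F U hA p N).hom =
      (homIso A F U hA p M).hom ≫ HomologicalComplex.homologyMap
        ((CechEdge.cxFunctor (famY U)).map (GMmap A F g).mapPresheaf) p := by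
  have e : ∀ M, (homIso A F U hA p M).hom =
      (((CohIII.tensorObj (cechLin A U F) M).sc p).mapHomologyIso
        (forget₂ (ModuleCat.{u} A) AddCommGrpCat.{u})).inv ≫
        HomologicalComplex.homologyMap (gammaIso A F U hA M).hom p := fun M => rfl
  rw [e, e]
  have h := ShortComplex.mapHomologyIso_inv_naturality
    ((HomologicalComplex.shortComplexFunctor (ModuleCat.{u} A) (ComplexShape.up ℕ) p).map
      (CohIII.tensorMap (cechLin A U F) g)) (forget₂ (ModuleCat.{u} A) AddCommGrpCat.{u})
  have h' : (forget₂ (ModuleCat.{u} A) AddCommGrpCat.{u}).map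
        (HomologicalComplex.homologyMap (CohIII.tensorMap (cechLin A U F) g) p) ≫
      (((CohIII.tensorObj (cechLin A U F) N).sc p).mapHomologyIso
        (forget₂ (ModuleCat.{u} A) AddCommGrpCat.{u})).inv =
      (((CohIII.tensorObj (cechLin A U F) M).sc p).mapHomologyIso
        (forget₂ (ModuleCat.{u} A) AddCommGrpCat.{u})).inv ≫
        HomologicalComplex.homologyMap
          (((forget₂ (ModuleCat.{u} A) AddCommGrpCat.{u}).mapHomologicalComplex _).map
            (CohIII.tensorMap (cechLin A U F) g)) p := h
  refine (Category.assoc _ _ _).symm.trans ?_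
  refine (congrArg (fun t => t ≫ HomologicalComplex.homologyMap (gammaIso A F U hA N).hom p)
    h').trans ?_
  refine (Category.assoc _ _ _).trans ?_
  refine Eq.trans ?_ (Category.assoc _ _ _).symm
  congr 1
  exact (HomologicalComplex.homologyMap_comp _ _ p).symm.trans
    ((congrArg (fun t => HomologicalComplex.homologyMap t p) (gammaIso_naturality A F U hA g)).trans
      (HomologicalComplex.homologyMap_comp _ _ p))

/-- **The Čech complex of `F` computes `M ↦ Ȟ^p(U, f^*(M~) ⊗ F)`, naturally in `M`.** -/
noncomputable def TFunCechNatIso (p : ℕ) :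
    CohIII.TFun (cechLin A U F) p ⋙ forget₂ (ModuleCat.{u} A) AddCommGrpCat.{u} ≅
      CohIII.tensorAFunctor A F ⋙ SheafOfModules.toSheaf X.ringCatSheaf ⋙ sheafToPresheaf _ _ ⋙
        CechEdge.cxFunctor (famTop (X := X.toTopCat) U) ⋙
          HomologicalComplex.homologyFunctor _ _ p :=
  NatIso.ofComponents (fun M => homIso A F U hA p M) (by
    intro M N g
    exact homIso_naturality A F U hA p g)

end Assembly

end Groth.Agent.H85.BC
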