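import Mathlib

/-!
# Finite affine covers with affine intersections (helper85)
-/

set_option autoImplicit false
universe u
open CategoryTheory Limits AlgebraicGeometry TopologicalSpace

namespace Groth.Agent.H85.BC

theorem exists_finite_affine_cover (X : Scheme.{u}) [CompactSpace X] :
    ∃ (ι : Type u) (_ : Finite ι) (U : ι → X.Opens), iSup U = ⊤ ∧ ∀ i, IsAffineOpen (U i) := by
  let 𝒰 := X.affineCover.finiteSubcover
  refine ⟨𝒰.I₀, inferInstance, fun i => (𝒰.f i).opensRange, ?_, fun i => ?_⟩
  · exact 𝒰.iSup_opensRange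
  · exact isAffineOpen_opensRange (𝒰.f i)

theorem isAffineOpen_inf' {X S : Scheme.{u}} [IsAffine S] (f : X ⟶ S) [IsSeparated f]
    {U V : X.Opens} (hU : IsAffineOpen U) (hV : IsAffineOpen V) : IsAffineOpen (U ⊓ V) := by
  have h : IsAffineHom (pullback.diagonal f) := inferInstance
  exact isAffineHom_diagonal_iff.mp h ⊤ (isAffineOpen_top S) U (by simp) V (by simp) hU hV

/-- finite nonempty intersections of affine opens in a scheme separated over an affine scheme -/
theorem isAffineOpen_iInf' {X S : Scheme.{u}} [IsAffine S] (f : X ⟶ S) [IsSeparated f]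
    {n : ℕ} (a : Fin (n + 1) → X.Opens) (h : ∀ k, IsAffineOpen (a k)) :
    IsAffineOpen (⨅ k, a k) :=
  InfClosed.iInf_mem_of_nonempty (s := Set.ofPred IsAffineOpen)
    (fun _ h _ h' ↦ isAffineOpen_inf' f h h') h

end Groth.Agent.H85.BC
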