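import Groth.Agent.H30.ExtendMap
import Groth.Prelude.Def_ega3

/-!
# Naturality (in the functor) of the compatibility of `extend` with additive functors, and the
functors `T` of an extended complex (helper85)
-/

set_option autoImplicit false
universe v v' u u'
open CategoryTheory Limits

namespace Groth.Agent.H85.BC

open Groth.Agent.H30.ExtendMap

section

variable {ι ι' : Type*} {c : ComplexShape ι} {c' : ComplexShape ι'}
  {C : Type u} [Category.{v} C] [HasZeroObject C] [Preadditive C]
  {D : Type u'} [Category.{v'} D] [HasZeroObject D] [Preadditive D]
  {F F' : C ⥤ D} [F.Additive] [F'.Additive] (τ : F ⟶ F') (K : HomologicalComplex C c)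
  (e : c.Embedding c')

theorem mapXIso_naturality (o : Option ι) :
    τ.app (HomologicalComplex.extend.X K o) ≫ (mapXIso F' K o).hom =
      (mapXIso F K o).hom ≫
        HomologicalComplex.extend.mapX ((NatTrans.mapHomologicalComplex τ c).app K) o := by
  match o with
  | none => exact (F.map_isZero (isZero_zero C)).eq_of_src _ _
  | some i =>
      simp only [mapXIso, HomologicalComplex.extend.mapX, Iso.refl_hom,
        NatTrans.mapHomologicalComplex_app_f]
      exact (Category.comp_id _).trans (Category.id_comp _).symm

theorem mapExtendIso_naturality :
    (NatTrans.mapHomologicalComplex τ c').app (K.extend e) ≫ (mapExtendIso F' K e).hom =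
      (mapExtendIso F K e).hom ≫
        HomologicalComplex.extendMap ((NatTrans.mapHomologicalComplex τ c).app K) e := by
  ext i'
  exact mapXIso_naturality τ K (e.r i')

end

section T

variable {A : Type u} [CommRing A] (K : CochainComplex (ModuleCat.{u} A) ℕ)

/-- the functors `T` of the extension to `ℤ` of an `ℕ`-indexed complex -/
noncomputable def TFunExtendIso (n : ℕ) (m : ℤ) (h : (n : ℤ) = m) :
    CohIII.TFun (K.extend ComplexShape.embeddingUpNat) m ≅ CohIII.TFun K n :=
  NatIso.ofComponents
    (fun M => homologyMapExtendIso (MonoidalCategory.tensorRight M) K n m h)
    (by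
      intro M N g
      have h1 := mapExtendIso_naturality
        ((MonoidalCategory.tensoringRight (ModuleCat.{u} A)).map g) K
        ComplexShape.embeddingUpNat
      have h2 : HomologicalComplex.homologyMap
            (CohIII.tensorMap (K.extend ComplexShape.embeddingUpNat) g) m ≫
          HomologicalComplex.homologyMap
            (mapExtendIso (MonoidalCategory.tensorRight N) K ComplexShape.embeddingUpNat).hom m =
          HomologicalComplex.homologyMap
            (mapExtendIso (MonoidalCategory.tensorRight M) K ComplexShape.embeddingUpNat).hom m ≫
          HomologicalComplex.homologyMap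
            (HomologicalComplex.extendMap (CohIII.tensorMap K g) ComplexShape.embeddingUpNat) m := by
        rw [← HomologicalComplex.homologyMap_comp, ← HomologicalComplex.homologyMap_comp]
        exact congrArg (fun φ => HomologicalComplex.homologyMap φ m) h1
      have h3 := HomologicalComplex.extendHomologyIso_hom_naturality
        (CohIII.tensorMap K g) ComplexShape.embeddingUpNat (j := n) (j' := m) h
      change HomologicalComplex.homologyMap
          (CohIII.tensorMap (K.extend ComplexShape.embeddingUpNat) g) m ≫
          (HomologicalComplex.homologyMap
            (mapExtendIso (MonoidalCategory.tensorRight N) K ComplexShape.embeddingUpNat).hom m ≫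
            (HomologicalComplex.extendHomologyIso _ ComplexShape.embeddingUpNat
              (j := n) (j' := m) h).hom) =
        (HomologicalComplex.homologyMap
            (mapExtendIso (MonoidalCategory.tensorRight M) K ComplexShape.embeddingUpNat).hom m ≫
            (HomologicalComplex.extendHomologyIso _ ComplexShape.embeddingUpNat
              (j := n) (j' := m) h).hom) ≫
          HomologicalComplex.homologyMap (CohIII.tensorMap K g) n
      rw [← Category.assoc, h2, Category.assoc, Category.assoc]
      exact congrArg (fun φ => _ ≫ φ) h3)

theorem isZero_T_extend_of_neg (M : ModuleCat.{u} A) (m : ℤ) (h : m < 0) :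
    IsZero (CohIII.T (K.extend ComplexShape.embeddingUpNat) m M) :=
  (HomologicalComplex.exactAt_iff_isZero_homology _ _).mp
    (exactAt_map_extend_of_neg (MonoidalCategory.tensorRight M) K m h)

end T

end Groth.Agent.H85.BC
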