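import Groth.Agent.H12.TCx
import Groth.Agent.H73.FlatQis
import Groth.Agent.H85.MumfordCxFun

/-!
# Mumford's Lemma 2 without boundedness of the target (helper85)

Let `φ : L ⟶ C` be a quasi-isomorphism of cochain complexes of flat `A`-modules with `L` bounded
above by `b`.  If `H^p(C ⊗ M) = 0` for all `p > b` and all `M` (instead of `C` being bounded above),
then `φ ⊗ M` is a quasi-isomorphism for every `M`.
-/

set_option autoImplicit false

namespace Groth.Agent.H85.BC

open CategoryTheory Limits MonoidalCategory

universe v u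

section Abstract

variable {C : Type u} [Category.{v} C] [Abelian C] {ι : Type*} {c : ComplexShape ι}

theorem mono_opcyclesToCycles (K : HomologicalComplex C c) (i j : ι) (hij : c.Rel i j)
    (h : IsZero (K.homology i)) : Mono (K.opcyclesToCycles i j) := by
  have hex := (HomologicalComplex.HomologySequence.composableArrows₃_exact K i j hij).exact 0
  exact hex.mono_g (h.eq_of_src _ _)

theorem epi_opcyclesToCycles (K : HomologicalComplex C c) (i j : ι) (hij : c.Rel i j)
    (h : IsZero (K.homology j)) : Epi (K.opcyclesToCycles i j) := by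
  have hex := (HomologicalComplex.HomologySequence.composableArrows₃_exact K i j hij).exact 1
  exact hex.epi_f (h.eq_of_tgt _ _)

theorem isIso_opcyclesToCycles (K : HomologicalComplex C c) (i j : ι) (hij : c.Rel i j)
    (hi : IsZero (K.homology i)) (hj : IsZero (K.homology j)) :
    IsIso (K.opcyclesToCycles i j) := by
  have := mono_opcyclesToCycles K i j hij hi
  have := epi_opcyclesToCycles K i j hij hj
  exact isIso_of_mono_of_epi _

/-- A morphism of complexes which is an isomorphism in the three degrees around `i` is a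
quasi-isomorphism at `i`. -/
theorem quasiIsoAt_of_isIso_f {K L : HomologicalComplex C c} (ψ : K ⟶ L) (i : ι)
    (h1 : IsIso (ψ.f (c.prev i))) (h2 : IsIso (ψ.f i)) (h3 : IsIso (ψ.f (c.next i))) :
    QuasiIsoAt ψ i := by
  rw [quasiIsoAt_iff]
  have : Epi ((HomologicalComplex.shortComplexFunctor C c i).map ψ).τ₁ := by
    change Epi (ψ.f (c.prev i)); infer_instance
  have : IsIso ((HomologicalComplex.shortComplexFunctor C c i).map ψ).τ₂ := by
    change IsIso (ψ.f i); infer_instance
  have : Mono ((HomologicalComplex.shortComplexFunctor C c i).map ψ).τ₃ := by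
    change Mono (ψ.f (c.next i)); infer_instance
  exact ShortComplex.quasiIso_of_epi_of_isIso_of_mono _

end Abstract

section Modules

variable (A : Type u) [CommRing A]

/-- If `T^p(K)` vanishes identically, `K` has flat terms and is exact at `p` and `p + 1`, then
`Z^{p+1}(K)` is flat. -/
theorem flat_cycles_succ_of_T_zero (K : CochainComplex (ModuleCat.{u} A) ℤ)
    (hK : ∀ i, Module.Flat A (K.X i)) (p : ℤ)
    (hT : ∀ M : ModuleCat.{u} A, IsZero (CohIII.T K p M))
    (h1 : IsZero (K.homology p)) (h2 : IsZero (K.homology (p + 1))) :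
    Module.Flat A (K.cycles (p + 1)) := by
  have hmono : (CohIII.TFun K p).PreservesMonomorphisms := by
    refine ⟨fun {M N} g _ => ?_⟩
    exact ⟨fun {Z} a b _ => (hT M).eq_of_tgt _ _⟩
  have hflat : Module.Flat A (K.opcycles p) :=
    (Groth.Agent.H12.TCx.preservesMono_iff K p (hK _)).mp hmono
  have hiso : IsIso (K.opcyclesToCycles p (p + 1)) :=
    isIso_opcyclesToCycles K p (p + 1) (by simp) h1 h2
  exact Module.Flat.of_linearEquiv (asIso (K.opcyclesToCycles p (p + 1))).toLinearEquiv.symm

/-- All modules of cycles of an acyclic complex of flat modules are flat as soon as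
`H^p(K ⊗ M) = 0` for all `M` and all `p > b`. -/
theorem flat_cycles_of_T_zero (K : CochainComplex (ModuleCat.{u} A) ℤ)
    (hK : ∀ i, Module.Flat A (K.X i)) (hac : K.Acyclic) (b : ℤ)
    (hT : ∀ (M : ModuleCat.{u} A) (p : ℤ), b < p → IsZero (CohIII.T K p M)) (q : ℤ) :
    Module.Flat A (K.cycles q) := by
  have hz : ∀ p, IsZero (K.homology p) := fun p =>
    (HomologicalComplex.exactAt_iff_isZero_homology _ _).mp (hac p)
  have hbig : ∀ q, b + 2 ≤ q → Module.Flat A (K.cycles q) := by
    intro q hq
    have h := flat_cycles_succ_of_T_zero A K hK (q - 1) (fun M => hT M (q - 1) (by omega))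
      (hz _) (hz _)
    have e : q - 1 + 1 = q := by omega
    rwa [e] at h
  -- descending induction below `b + 2`
  have hsmall : ∀ n : ℕ, Module.Flat A (K.cycles (b + 2 - n)) := by
    intro n
    induction n with
    | zero => exact hbig _ (by simp)
    | succ n ih =>
      have h := Groth.Agent.H73.flat_cycles_step A K hK (b + 2 - (n + 1 : ℕ)) (hz _) (by
        have e : b + 2 - ((n + 1 : ℕ) : ℤ) + 1 = b + 2 - (n : ℤ) := by push_cast; omega
        rw [e]
        exact ih)
      exact h
  by_cases hq : b + 2 ≤ q
  · exact hbig q hq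
  · have e : q = b + 2 - ((b + 2 - q).toNat : ℤ) := by omega
    rw [e]
    exact hsmall _

/-- the inclusion of the target into the mapping cone is an isomorphism in degrees where the
shifted source vanishes -/
theorem isIso_inr_f {L C : CochainComplex (ModuleCat.{u} A) ℤ} (φ : L ⟶ C) (i : ℤ)
    (h : IsZero (L.X (i + 1))) : IsIso ((CochainComplex.mappingCone.inr φ).f i) := by
  refine ⟨(CochainComplex.mappingCone.snd φ).v i i (add_zero i), ?_, ?_⟩
  · exact CochainComplex.mappingCone.inr_f_snd_v φ i
  · have h1 := CochainComplex.mappingCone.id_X φ i (i + 1) rfl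
    have h2 : (CochainComplex.mappingCone.fst φ).1.v i (i + 1) rfl ≫
        (CochainComplex.mappingCone.inl φ).v (i + 1) i (by omega) = 0 := by
      have : (CochainComplex.mappingCone.fst φ).1.v i (i + 1) rfl = 0 := h.eq_of_tgt _ _
      rw [this, zero_comp]
    rw [h2, zero_add] at h1
    exact h1

/-- **Mumford's Lemma 2, unbounded target**: a quasi-isomorphism `φ : L ⟶ C` of complexes of flat
modules, `L` bounded above by `b`, `H^p(C ⊗ N) = 0` for `p > b` and all `N`, stays a
quasi-isomorphism after tensoring with any module. -/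
theorem quasiIso_tensor_of_vanishing (L C : CochainComplex (ModuleCat.{u} A) ℤ)
    (hL : ∀ i, Module.Flat A (L.X i)) (hC : ∀ i, Module.Flat A (C.X i)) (b : ℤ)
    (hLb : ∀ i, b < i → IsZero (L.X i))
    (hCT : ∀ (N : ModuleCat.{u} A) (p : ℤ), b < p → IsZero (CohIII.T C p N))
    (φ : L ⟶ C) [QuasiIso φ] (M : ModuleCat.{u} A) :
    QuasiIso (((tensorRight M).mapHomologicalComplex (ComplexShape.up ℤ)).map φ) := by
  rw [Groth.Agent.H73.quasiIso_iff_acyclic_mappingCone]
  set K := CochainComplex.mappingCone φ with hKdef
  have hac : K.Acyclic := (Groth.Agent.H73.quasiIso_iff_acyclic_mappingCone φ).mp inferInstance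
  have hK : ∀ i, Module.Flat A (K.X i) := Groth.Agent.H73.FlatQis.flat_mappingCone_X A hL hC φ
  have hTK : ∀ (N : ModuleCat.{u} A) (p : ℤ), b < p → IsZero (CohIII.T K p N) := by
    intro N p hp
    let ψ := ((tensorRight N).mapHomologicalComplex (ComplexShape.up ℤ)).map
      (CochainComplex.mappingCone.inr φ)
    have hiso : ∀ i, b ≤ i → IsIso (ψ.f i) := by
      intro i hi
      have := isIso_inr_f A φ i (hLb _ (by omega))
      change IsIso ((tensorRight N).map ((CochainComplex.mappingCone.inr φ).f i))
      infer_instance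
    have hq : QuasiIsoAt ψ p := by
      apply quasiIsoAt_of_isIso_f
      · rw [CochainComplex.prev]; exact hiso _ (by omega)
      · exact hiso _ (by omega)
      · rw [CochainComplex.next]; exact hiso _ (by omega)
    have : IsIso (HomologicalComplex.homologyMap ψ p) :=
      (quasiIsoAt_iff_isIso_homologyMap ψ p).mp hq
    exact IsZero.of_iso (hCT N p hp) (asIso (HomologicalComplex.homologyMap ψ p)).symm
  have hflat : ∀ q : ℤ, Module.Flat A (K.cycles q) :=
    flat_cycles_of_T_zero A K hK hac b hTK
  have hacM := Groth.Agent.H73.FlatQis.acyclic_tensor A K hflat hac M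
  intro n
  rw [HomologicalComplex.exactAt_iff_isZero_homology]
  exact IsZero.of_iso ((HomologicalComplex.exactAt_iff_isZero_homology _ _).mp (hacM n))
    ((HomologicalComplex.homologyFunctor _ _ n).mapIso
      (CochainComplex.mappingCone.mapHomologicalComplexIso φ
        (MonoidalCategory.tensorRight M))).symm

end Modules

end Groth.Agent.H85.BC
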