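import Groth.Agent.H85.BC.MumfordCore
import Groth.Agent.H44.PullbackFT
import Groth.Agent.H7.TildeBridge
import Groth.Agent.S0002
import Groth.Agent.S0016

/-!
# The Mumford complex of a flat coherent module on a proper scheme over a Noetherian ring
(helper85, base-change chain; the shape agreed with helper12)
-/

set_option autoImplicit false
universe u
open CategoryTheory Limits AlgebraicGeometry TopologicalSpace Opposite TensorProduct MonoidalCategory

namespace Groth.Agent.H85.BC

/-- `f^*(A~) ⊗ F` is coherent when `F` is -/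
theorem isCoh_tensorA_unit (A : Type u) [CommRing A] {X : Scheme.{u}}
    [X.Over (Spec (CommRingCat.of A))] (F : X.Modules) (hF : Coh.IsCoh F) :
    Coh.IsCoh ((CohIII.tensorAFunctor A F).obj (𝟙_ (ModuleCat.{u} A))) := by
  haveI : F.IsQuasicoherent := hF.1
  haveI : SheafOfModules.IsFiniteType (R := X.ringCatSheaf) F := hF.2
  refine ⟨isQuasicoherent_tensorA A F _, ?_⟩
  change SheafOfModules.IsFiniteType (R := X.ringCatSheaf) (GM A F (𝟙_ (ModuleCat.{u} A)))
  haveI : Module.Finite (CommRingCat.of A) (𝟙_ (ModuleCat.{u} (CommRingCat.of A)) :) :=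
    inferInstanceAs (Module.Finite A A)
  haveI : ((tilde.functor (CommRingCat.of A)).obj (𝟙_ (ModuleCat.{u} A))).IsQuasicoherent :=
    inferInstanceAs (tilde (R := CommRingCat.of A) (𝟙_ (ModuleCat.{u} A))).IsQuasicoherent
  haveI : SheafOfModules.IsFiniteType (R := (Spec (CommRingCat.of A)).ringCatSheaf)
      ((tilde.functor (CommRingCat.of A)).obj (𝟙_ (ModuleCat.{u} A))) :=
    Groth.Agent.H7.TildeBridge.isFiniteType_tilde (CommRingCat.of A) (𝟙_ (ModuleCat.{u} A))
  haveI : (pullTilde A (X := X) (𝟙_ (ModuleCat.{u} A))).IsQuasicoherent :=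
    Groth.Agent.H44.isQuasicoherent_pullback _ _
  haveI : SheafOfModules.IsFiniteType (R := X.ringCatSheaf)
      (pullTilde A (X := X) (𝟙_ (ModuleCat.{u} A))) :=
    Groth.Agent.H44.isFiniteType_pullback _ _
  exact Groth.Agent.H71.QCoh.isFiniteType_tensorMod _ _

/-- **The Mumford complex.**  For `X` proper over a Noetherian ring `A` and `F` coherent and flat
over `A` there is a bounded-above complex `L` of finite free `A`-modules, with
`H^i(L ⊗ M) = 0` for `i < 0`, computing `M ↦ H^p(X, f^*(M~) ⊗ F)` functorially in `M`. -/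
theorem exists_mumford (A : Type u) [CommRing A] [IsNoetherianRing A] (X : Scheme.{u})
    [X.Over (Spec (CommRingCat.of A))] [IsProper (X ↘ Spec (CommRingCat.of A))]
    (F : X.Modules) (hF : Coh.IsCoh F)
    (hfl : FlatMod.IsFlatOver (X ↘ Spec (CommRingCat.of A)) F) :
    ∃ L : CochainComplex (ModuleCat.{u} A) ℤ,
      (∀ i, Module.Finite A (L.X i) ∧ Module.Free A (L.X i)) ∧
      (∃ b : ℤ, ∀ i, b < i → IsZero (L.X i)) ∧
      (∀ (M : ModuleCat A) (i : ℤ), i < 0 → IsZero (CohIII.T L i M)) ∧
      ∀ p : ℕ, Nonempty (CohIII.tensorAFunctor A F ⋙ CohIII.HAb X p ≅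
        CohIII.TFun L (p : ℤ) ⋙ forget₂ (ModuleCat.{u} A) AddCommGrpCat.{u}) := by
  haveI : F.IsQuasicoherent := hF.1
  haveI : CompactSpace X :=
    QuasiCompact.compactSpace_of_compactSpace (X ↘ Spec (CommRingCat.of A))
  haveI : QuasiSeparatedSpace X :=
    quasiSeparatedSpace_of_quasiSeparated (X ↘ Spec (CommRingCat.of A))
  refine exists_mumford_core A F hfl (Groth.Agent.S0016.result X) (fun p => ?_)
  exact Groth.Agent.S0002.result A X _ (isCoh_tensorA_unit A F hF) p

end Groth.Agent.H85.BC
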