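import Groth.Agent.H85.BC.CechTensor
import Groth.Agent.H71.QCoh.FlatOverAffine

/-!
# Flatness of the terms of the `A`-linear Čech complex (helper85, base-change chain)
-/

set_option autoImplicit false
universe u
open CategoryTheory Limits AlgebraicGeometry TopologicalSpace Opposite TensorProduct MonoidalCategory

namespace Groth.Agent.H85.BC

variable (A : Type u) [CommRing A] {X : Scheme.{u}} [X.Over (Spec (CommRingCat.of A))]
  (F : X.Modules)

/-- sections of a module flat over `Spec A` on an affine open are flat over `A` -/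
theorem flat_sec [F.IsQuasicoherent]
    (hfl : FlatMod.IsFlatOver (X ↘ Spec (CommRingCat.of A)) F) {U : X.Opens}
    (hU : IsAffineOpen U) : Module.Flat A (Sec A F U) := by
  have h := Groth.Agent.H71.QCoh.flat_sections_base_of_isFlatOverAt
    (X ↘ Spec (CommRingCat.of A)) F hU (isAffineOpen_top (Spec (CommRingCat.of A))) le_top
    (fun x _ => hfl x)
  letI : Algebra A Γ(Spec (CommRingCat.of A), ⊤) :=
    (Scheme.ΓSpecIso (CommRingCat.of A)).inv.hom.toAlgebra
  letI : Module Γ(Spec (CommRingCat.of A), ⊤) (Sec A F U) :=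
    Module.compHom Γ(F, U) ((X ↘ Spec (CommRingCat.of A)).appLE ⊤ U le_top).hom
  haveI : IsScalarTower A Γ(Spec (CommRingCat.of A), ⊤) (Sec A F U) :=
    IsScalarTower.of_algebraMap_smul (fun r m => rfl)
  have hbij : Function.Bijective (algebraMap A Γ(Spec (CommRingCat.of A), ⊤)) :=
    ConcreteCategory.bijective_of_isIso (Scheme.ΓSpecIso (CommRingCat.of A)).inv
  exact (Groth.Agent.H71.QCoh.flat_iff_of_bijective_algebraMap (R := A)
    (R' := Γ(Spec (CommRingCat.of A), ⊤)) (N := Sec A F U) hbij).mp h

/-- a finite product of flat modules is flat -/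
theorem flat_pi {ι : Type u} [Finite ι] (Z : ι → Type u) [∀ i, AddCommGroup (Z i)]
    [∀ i, Module A (Z i)] [∀ i, Module.Flat A (Z i)] : Module.Flat A (∀ i, Z i) := by
  classical
  haveI := Fintype.ofFinite ι
  exact Module.Flat.of_linearEquiv (DFinsupp.linearEquivFunOnFintype (R := A) (M := Z)).symm

variable {ι : Type u} (U : ι → X.Opens) [Finite ι] [F.IsQuasicoherent]

theorem flat_cechLin_X (hfl : FlatMod.IsFlatOver (X ↘ Spec (CommRingCat.of A)) F)
    (hA : ∀ (p : ℕ) (σ : Fin (p + 1) → ι), IsAffineOpen (⨅ k, U (σ k))) (n : ℕ) :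
    Module.Flat A ((cechLin A U F).X n) := by
  have hflat : ∀ i : Fin (n + 1) → ι, Module.Flat A (Sec A F (cechObj (famY U) i).left) := by
    intro i
    have hleft : (cechObj (famY U) i).left = ⨅ k, U (i k) :=
      Groth.Agent.H43.LerayLin.pi_left_eq
        (fun k => Groth.Agent.H43.LerayLin.famTop (X := X.toTopCat) U (i k))
    have haff : IsAffineOpen ((cechObj (famY U) i).left) := by
      rw [hleft]; exact hA n i
    exact flat_sec A F hfl haff
  haveI : Module.Flat A (∀ i : Fin (n + 1) → ι, Sec A F (cechObj (famY U) i).left) :=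
    flat_pi A (fun i : Fin (n + 1) → ι => Sec A F (cechObj (famY U) i).left)
  exact Module.Flat.of_linearEquiv
    (ModuleCat.piIsoPi (fun i : Fin (n + 1) → ι =>
      secMod A F (cechObj (famY U) i).left)).toLinearEquiv

end Groth.Agent.H85.BC
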