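import Groth.Prelude.Def_ega3
import Groth.Agent.H96.BaseChange.Lin
import Groth.Agent.H96.BaseChange.CechLin

/-!
# `A`-linearity of natural isomorphisms `tensorAFunctor A F ⋙ H^p ≅ TFun C p ⋙ forget₂` (helper85)
-/

set_option autoImplicit false
universe u
open CategoryTheory Limits AlgebraicGeometry MonoidalCategory

namespace Groth.Agent.H85.BC

section

variable {A : Type u} [CommRing A]

theorem tensorMap_smul_id (C : CochainComplex (ModuleCat.{u} A) ℕ) (M : ModuleCat.{u} A) (a : A) :
    CohIII.tensorMap C (a • 𝟙 M) = a • 𝟙 (CohIII.tensorObj C M) := by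
  ext i : 1
  change (C.X i) ◁ (a • 𝟙 M) = a • 𝟙 _
  rw [MonoidalLinear.whiskerLeft_smul, MonoidalCategory.whiskerLeft_id]
  rfl

theorem TFun_map_smul_apply (C : CochainComplex (ModuleCat.{u} A) ℕ) (p : ℕ) (M : ModuleCat.{u} A)
    (a : A) (x : CohIII.T C p M) :
    ((CohIII.TFun C p).map (a • 𝟙 M)).hom x = a • x := by
  change (HomologicalComplex.homologyMap (CohIII.tensorMap C (a • 𝟙 M)) p).hom x = a • x
  rw [tensorMap_smul_id]
  exact Groth.Agent.H96.BC.homologyMap_smul_id_apply A (CohIII.tensorObj C M) a p x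

end

section

variable (A : Type u) [CommRing A] {X : Scheme.{u}} [X.Over (Spec (CommRingCat.of A))]
  (F : X.Modules) (C : CochainComplex (ModuleCat.{u} A) ℕ) (p : ℕ)
  (e : CohIII.tensorAFunctor A F ⋙ CohIII.HAb X p ≅
    CohIII.TFun C p ⋙ forget₂ (ModuleCat.{u} A) AddCommGrpCat.{u})

/-- a natural isomorphism `H^p(X, f^*(M~) ⊗ F) ≅ H^p(C ⊗ M)` of abelian groups is `A`-linear -/
noncomputable def linearEquivOfNatIso (M : ModuleCat.{u} A) :
    Coh.HH X ((CohIII.tensorAFunctor A F).obj M) p ≃ₗ[A] CohIII.T C p M :=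
  { (e.app M).addCommGroupIsoToAddEquiv with
    map_smul' := fun a x => by
      have h := e.hom.naturality (a • 𝟙 M)
      have h1 := ConcreteCategory.congr_hom h x
      have h2 : ((CohIII.HAb X p).map ((CohIII.tensorAFunctor A F).map (a • 𝟙 M))).hom x = a • x :=
        Groth.Agent.H96.BC.HAb_map_tensorAFunctor_smul A F M a p x
      let y : CohIII.T C p M := (e.hom.app M).hom x
      change (e.hom.app M).hom (a • x) = @HSMul.hSMul A (CohIII.T C p M) (CohIII.T C p M) _ a y
      rw [← h2]
      refine h1.trans ?_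
      exact TFun_map_smul_apply C p M a ((e.hom.app M).hom x) }

end

end Groth.Agent.H85.BC
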