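import Groth.Agent.H85.BC.CechTensor
import Groth.Agent.H85.BC.ExtendNat
import Groth.Agent.H85.BC.TFunLin
import Groth.Agent.H85.BC.SecFlat
import Groth.Agent.H85.BC.Cover
import Groth.Agent.H96.BaseChange.LerayNat
import Groth.Agent.H39.MumfordCx3
import Groth.Agent.H71.QCoh.TensorQCoh
import Groth.Agent.H44.PullbackAffine

/-!
# The Mumford complex of a flat quasi-coherent module on a separated quasi-compact scheme over a
Noetherian ring, assuming finiteness and vanishing of cohomology (helper85, base-change chain)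
-/

set_option autoImplicit false
universe u
open CategoryTheory Limits AlgebraicGeometry TopologicalSpace Opposite TensorProduct MonoidalCategory

namespace Groth.Agent.H85.BC

variable (A : Type u) [CommRing A] {X : Scheme.{u}} [X.Over (Spec (CommRingCat.of A))]
  (F : X.Modules)

theorem isQuasicoherent_tensorA [F.IsQuasicoherent] (M : ModuleCat.{u} A) :
    ((CohIII.tensorAFunctor A F).obj M).IsQuasicoherent := by
  change (GM A F M).IsQuasicoherent
  haveI : ((tilde.functor (CommRingCat.of A)).obj M).IsQuasicoherent :=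
    inferInstanceAs (tilde (R := CommRingCat.of A) M).IsQuasicoherent
  haveI : (pullTilde A (X := X) M).IsQuasicoherent :=
    Groth.Agent.H44.isQuasicoherent_pullback _ _
  exact Groth.Agent.H71.QCoh.isQuasicoherent_tensorMod _ _

section Core

variable [IsNoetherianRing A] [IsSeparated (X ↘ Spec (CommRingCat.of A))] [CompactSpace X]
  [F.IsQuasicoherent]

theorem exists_mumford_core
    (hfl : FlatMod.IsFlatOver (X ↘ Spec (CommRingCat.of A)) F)
    (hvan : ∃ d : ℕ, ∀ (M : X.Modules), M.IsQuasicoherent → ∀ p : ℕ, d ≤ p →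
      Subsingleton (Coh.HH X M p))
    (hfin : ∀ p : ℕ, Module.Finite A
      (Coh.HH X ((CohIII.tensorAFunctor A F).obj (𝟙_ (ModuleCat.{u} A))) p)) :
    ∃ L : CochainComplex (ModuleCat.{u} A) ℤ,
      (∀ i, Module.Finite A (L.X i) ∧ Module.Free A (L.X i)) ∧
      (∃ b : ℤ, ∀ i, b < i → IsZero (L.X i)) ∧
      (∀ (M : ModuleCat A) (i : ℤ), i < 0 → IsZero (CohIII.T L i M)) ∧
      ∀ p : ℕ, Nonempty (CohIII.tensorAFunctor A F ⋙ CohIII.HAb X p ≅
        CohIII.TFun L (p : ℤ) ⋙ forget₂ (ModuleCat.{u} A) AddCommGrpCat.{u}) := by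
  obtain ⟨ι, _, U, hU, hUaff⟩ := exists_finite_affine_cover X
  obtain ⟨d, hd⟩ := hvan
  have hA : ∀ (p : ℕ) (σ : Fin (p + 1) → ι), IsAffineOpen (⨅ k, U (σ k)) := fun p σ =>
    isAffineOpen_iInf' (X ↘ Spec (CommRingCat.of A)) (fun k => U (σ k)) (fun k => hUaff _)
  have hA' : ∀ (p : ℕ) (σ : Fin (p + 1) → ι),
      IsAffineOpen (Groth.Agent.Lead.Cech.cechOpen (X := X) U σ) := fun p σ => by
    rw [Groth.Agent.Lead.Cech.cechOpen_eq_iInf]
    exact hA p σ
  -- the natural isomorphisms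
  have e : ∀ p : ℕ, Nonempty (CohIII.tensorAFunctor A F ⋙ CohIII.HAb X p ≅
      CohIII.TFun (cechLin A U F) p ⋙ forget₂ (ModuleCat.{u} A) AddCommGrpCat.{u}) := fun p => by
    obtain ⟨e₂⟩ := Groth.Agent.H96.BC.nonempty_HAb_natIso U hU hA' (CohIII.tensorAFunctor A F)
      (fun M => isQuasicoherent_tensorA A F M) p
    exact ⟨e₂ ≪≫ (TFunCechNatIso A F U hA p).symm⟩
  have eL : ∀ (p : ℕ) (M : ModuleCat.{u} A),
      Nonempty (Coh.HH X ((CohIII.tensorAFunctor A F).obj M) p ≃ₗ[A]
        CohIII.T (cechLin A U F) p M) := fun p M =>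
    ⟨linearEquivOfNatIso A F (cechLin A U F) p (e p).some M⟩
  -- vanishing and finiteness for the `ℕ`-indexed complex
  have hvanN : ∀ (M : ModuleCat.{u} A) (n : ℕ), d ≤ n → IsZero (CohIII.T (cechLin A U F) n M) := by
    intro M n hn
    obtain ⟨l⟩ := eL n M
    haveI : Subsingleton (Coh.HH X ((CohIII.tensorAFunctor A F).obj M) n) :=
      hd _ (isQuasicoherent_tensorA A F M) n hn
    haveI : Subsingleton (CohIII.T (cechLin A U F) n M) := l.symm.toEquiv.subsingleton
    exact ModuleCat.isZero_of_subsingleton _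
  have hfinN : ∀ n : ℕ, Module.Finite A (CohIII.T (cechLin A U F) n (𝟙_ (ModuleCat.{u} A))) := by
    intro n
    obtain ⟨l⟩ := eL n (𝟙_ (ModuleCat.{u} A))
    haveI := hfin n
    exact Module.Finite.equiv l
  -- the `ℤ`-indexed complex
  let CZ : CochainComplex (ModuleCat.{u} A) ℤ :=
    (cechLin A U F).extend ComplexShape.embeddingUpNat
  have hflat : ∀ i : ℤ, Module.Flat A (CZ.X i) := by
    intro i
    by_cases hi : 0 ≤ i
    · obtain ⟨n, rfl⟩ := Int.eq_ofNat_of_zero_le hi
      haveI : Module.Flat A ((cechLin A U F).X n) := flat_cechLin_X A F U hfl hA n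
      exact Module.Flat.of_linearEquiv
        ((cechLin A U F).extendXIso ComplexShape.embeddingUpNat (i := n) rfl).toLinearEquiv
    · have hz : IsZero (CZ.X i) :=
        (cechLin A U F).isZero_extend_X ComplexShape.embeddingUpNat i (fun n hn => by
          have : (n : ℤ) = i := hn
          omega)
      haveI := ModuleCat.subsingleton_of_isZero hz
      infer_instance
  have hTZ : ∀ (M : ModuleCat.{u} A) (n : ℕ),
      CohIII.T CZ (n : ℤ) M ≅ CohIII.T (cechLin A U F) n M := fun M n =>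
    (TFunExtendIso (cechLin A U F) n (n : ℤ) rfl).app M
  have hN : ∀ (M : ModuleCat.{u} A) (p : ℤ), (d : ℤ) < p → IsZero (CohIII.T CZ p M) := by
    intro M p hp
    obtain ⟨n, rfl⟩ := Int.eq_ofNat_of_zero_le (by omega : 0 ≤ p)
    exact IsZero.of_iso (hvanN M n (by omega)) (hTZ M n)
  have hfinZ : ∀ i : ℤ, Module.Finite A (CZ.homology i) := by
    intro i
    have hT : Module.Finite A (CohIII.T CZ i (𝟙_ (ModuleCat.{u} A))) := by
      by_cases hi : 0 ≤ i
      · obtain ⟨n, rfl⟩ := Int.eq_ofNat_of_zero_le hi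
        haveI := hfinN n
        exact Module.Finite.equiv (hTZ (𝟙_ (ModuleCat.{u} A)) n).symm.toLinearEquiv
      · haveI := ModuleCat.subsingleton_of_isZero
          (isZero_T_extend_of_neg (cechLin A U F) (𝟙_ (ModuleCat.{u} A)) i (by omega))
        infer_instance
    exact Module.Finite.equiv
      (Groth.Agent.H39.MumfordCx2.tensUnitHomologyIso A CZ i).toLinearEquiv
  obtain ⟨L, hL, hz, hiso⟩ :=
    Groth.Agent.H39.MumfordCx3.exists_finiteFree_TFun_iso A CZ (d : ℤ) hflat hN hfinZ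
  refine ⟨L, hL, ⟨(d : ℤ), hz⟩, ?_, ?_⟩
  · intro M i hi
    obtain ⟨t⟩ := hiso i
    exact IsZero.of_iso (isZero_T_extend_of_neg (cechLin A U F) M i hi) (t.app M).symm
  · intro p
    obtain ⟨t⟩ := hiso (p : ℤ)
    obtain ⟨e₀⟩ := e p
    exact ⟨e₀ ≪≫ Functor.isoWhiskerRight
      ((TFunExtendIso (cechLin A U F) p (p : ℤ) rfl).symm ≪≫ t)
      (forget₂ (ModuleCat.{u} A) AddCommGrpCat.{u})⟩

end Core

end Groth.Agent.H85.BC
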