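import Groth.Agent.H44.PullUnit
import Groth.Prelude.Def_ega3

/-!
# Sections of an `O_X`-module as a presheaf of `A`-modules, for `X` over `Spec A` (helper85)
-/

set_option autoImplicit false
universe u
open CategoryTheory Limits AlgebraicGeometry TopologicalSpace Opposite

namespace Groth.Agent.H85.BC

section SecDef

/-- `Γ(F, U)` as a type carrying an `A`-module structure -/
def Sec (A : Type u) {X : Scheme.{u}} (F : X.Modules) (U : X.Opens) : Type u := Γ(F, U)

variable (A : Type u) {X : Scheme.{u}} (F : X.Modules)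

/-- reading an element of `Sec` as a section -/
def Sec.toSec {U : X.Opens} (s : Sec A F U) : Γ(F, U) := s

/-- reading a section as an element of `Sec` -/
def Sec.ofSec {U : X.Opens} (s : Γ(F, U)) : Sec A F U := s

@[simp] theorem Sec.toSec_ofSec {U : X.Opens} (s : Γ(F, U)) :
    Sec.toSec A F (Sec.ofSec A F s) = s := rfl

@[simp] theorem Sec.ofSec_toSec {U : X.Opens} (s : Sec A F U) :
    Sec.ofSec A F (Sec.toSec A F s) = s := rfl

theorem Sec.toSec_injective {U : X.Opens} : Function.Injective (Sec.toSec A F (U := U)) :=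
  fun _ _ h => h

end SecDef

variable (A : Type u) [CommRing A] {X : Scheme.{u}} [X.Over (Spec (CommRingCat.of A))]

/-- the ring map `A → Γ(X, U)` -/
noncomputable def secRing (U : X.Opens) : A →+* Γ(X, U) :=
  ((X ↘ Spec (CommRingCat.of A)).appLE ⊤ U le_top).hom.comp
    (Scheme.ΓSpecIso (CommRingCat.of A)).inv.hom

theorem secRing_apply (U : X.Opens) (a : A) :
    secRing A U a = ((X ↘ Spec (CommRingCat.of A)).appLE ⊤ U le_top).hom
      ((Scheme.ΓSpecIso (CommRingCat.of A)).inv.hom a) := rfl

theorem secRing_map {U V : X.Opens} (i : V ⟶ U) (a : A) :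
    X.presheaf.map i.op (secRing A U a) = secRing A V a := by
  rw [secRing_apply, secRing_apply]
  have h := Scheme.Hom.appLE_map (X ↘ Spec (CommRingCat.of A)) (U := ⊤) (V := U) le_top i.op
  exact congr($h ((Scheme.ΓSpecIso (CommRingCat.of A)).inv.hom a))

variable (F : X.Modules)

noncomputable instance (U : X.Opens) : AddCommGroup (Sec A F U) :=
  inferInstanceAs (AddCommGroup Γ(F, U))

noncomputable instance (U : X.Opens) : Module A (Sec A F U) :=
  Module.compHom Γ(F, U) (secRing A U)

theorem Sec.toSec_smul {U : X.Opens} (a : A) (s : Sec A F U) :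
    Sec.toSec A F (a • s) = secRing A U a • Sec.toSec A F s := rfl

theorem Sec.toSec_add {U : X.Opens} (s t : Sec A F U) :
    Sec.toSec A F (s + t) = Sec.toSec A F s + Sec.toSec A F t := rfl

theorem Sec.toSec_zero {U : X.Opens} : Sec.toSec A F (0 : Sec A F U) = 0 := rfl

theorem Sec.ofSec_smul {U : X.Opens} (a : A) (s : Γ(F, U)) :
    Sec.ofSec A F (secRing A U a • s) = a • Sec.ofSec A F s := rfl

theorem Sec.ofSec_add {U : X.Opens} (s t : Γ(F, U)) :
    Sec.ofSec A F (s + t) = Sec.ofSec A F s + Sec.ofSec A F t := rfl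

/-- `Γ(F, U)` as an `A`-module -/
noncomputable abbrev secMod (U : X.Opens) : ModuleCat.{u} A := ModuleCat.of A (Sec A F U)

/-- restriction maps, `A`-linearly -/
noncomputable def secRes {U V : X.Opens} (i : V ⟶ U) : Sec A F U →ₗ[A] Sec A F V where
  toFun s := Sec.ofSec A F (F.presheaf.map i.op (Sec.toSec A F s))
  map_add' s t := by
    rw [Sec.toSec_add, map_add, Sec.ofSec_add]
  map_smul' a s := by
    rw [Sec.toSec_smul, Scheme.Modules.map_smul, secRing_map, Sec.ofSec_smul, RingHom.id_apply]

theorem secRes_apply {U V : X.Opens} (i : V ⟶ U) (s : Sec A F U) :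
    Sec.toSec A F (secRes A F i s) = F.presheaf.map i.op (Sec.toSec A F s) := rfl

/-- the presheaf of `A`-modules of sections of `F` -/
noncomputable def secFunctor : (Opens X)ᵒᵖ ⥤ ModuleCat.{u} A where
  obj U := secMod A F U.unop
  map i := ModuleCat.ofHom (secRes A F i.unop)
  map_id U := by
    ext s
    apply Sec.toSec_injective A F
    change F.presheaf.map (𝟙 U.unop).op (Sec.toSec A F s) = _
    have : (𝟙 U.unop).op = 𝟙 U := rfl
    rw [this, F.presheaf.map_id]
    rfl
  map_comp {U V W} i j := by
    ext s
    apply Sec.toSec_injective A F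
    change F.presheaf.map (i ≫ j).unop.op (Sec.toSec A F s) =
      F.presheaf.map j.unop.op (F.presheaf.map i.unop.op (Sec.toSec A F s))
    have : (i ≫ j).unop.op = i.unop.op ≫ j.unop.op := rfl
    rw [this, F.presheaf.map_comp]
    rfl

variable {F} in
/-- a morphism of modules, on sections, `A`-linearly -/
noncomputable def secHom {G : X.Modules} (φ : F ⟶ G) (U : X.Opens) : Sec A F U →ₗ[A] Sec A G U where
  toFun s := Sec.ofSec A G (φ.app U (Sec.toSec A F s))
  map_add' s t := by
    rw [Sec.toSec_add, map_add, Sec.ofSec_add]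
  map_smul' a s := by
    rw [Sec.toSec_smul, Scheme.Modules.Hom.app_smul, Sec.ofSec_smul, RingHom.id_apply]

variable {F} in
theorem secHom_apply {G : X.Modules} (φ : F ⟶ G) (U : X.Opens) (s : Sec A F U) :
    Sec.toSec A G (secHom A φ U s) = φ.app U (Sec.toSec A F s) := rfl

variable {F} in
/-- a morphism of modules induces a morphism of presheaves of `A`-modules -/
noncomputable def secFunctorMap {G : X.Modules} (φ : F ⟶ G) : secFunctor A F ⟶ secFunctor A G where
  app U := ModuleCat.ofHom (secHom A φ U.unop)
  naturality {U V} i := by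
    ext s
    apply Sec.toSec_injective A G
    change φ.app V.unop (F.presheaf.map i.unop.op (Sec.toSec A F s)) =
      G.presheaf.map i.unop.op (φ.app U.unop (Sec.toSec A F s))
    exact congr($((Scheme.Modules.Hom.mapPresheaf φ).naturality i.unop.op) (Sec.toSec A F s))

/-- forgetting the `A`-module structure gives back the underlying presheaf -/
noncomputable def secFunctorForget :
    secFunctor A F ⋙ forget₂ (ModuleCat.{u} A) AddCommGrpCat.{u} ≅ F.presheaf :=
  NatIso.ofComponents (fun U => (AddEquiv.refl Γ(F, U.unop)).toAddCommGrpIso) (by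
    intro U V i
    rfl)

end Groth.Agent.H85.BC
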