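import Groth.Agent.H71.CohBC.TensorAffine
import Groth.Agent.H85.BC.SecMod
import Groth.Agent.H85.BC.AlgLemma

/-!
# Sections of `f^*(M~) ⊗ F` over affine opens (helper85, base change chain)

For `X` over `Spec A`, `F` an `O_X`-module and `M` an `A`-module: the canonical `A`-linear map
`theta : Γ(F, U) ⊗_A M → Γ(f^*(M~) ⊗ F, U)`, natural in `U` (`thetaNat`) and in `M`
(`theta_naturality`), bijective for `F` quasi-coherent and `U` affine (`theta_bijective`).
-/

set_option autoImplicit false
universe u
open CategoryTheory Limits AlgebraicGeometry TopologicalSpace Opposite TensorProduct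
open Groth.Agent.H44 Groth.Agent.H5.Stalk.Tensor
namespace Groth.Agent.H85.BC

variable (A : Type u) [CommRing A] {X : Scheme.{u}} [X.Over (Spec (CommRingCat.of A))]
  (F : X.Modules) (M : ModuleCat.{u} A)

/-- `f^*(M~)` -/
noncomputable abbrev pullTilde : X.Modules :=
  (Scheme.Modules.pullback (X ↘ Spec (CommRingCat.of A))).obj
    ((tilde.functor (CommRingCat.of A)).obj M)

/-- the module `f^*(M~) ⊗ F` -/
noncomputable abbrev GM : X.Modules := CohB1.tensorMod (pullTilde A M) F

theorem GM_eq : (CohIII.tensorAFunctor A F).obj M = GM A F M := rfl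

/-- the global section of `M~` attached to `m`. -/
noncomputable def unitSec (m : M) : Γ((tilde.functor (CommRingCat.of A)).obj M, ⊤) :=
  ((tilde.adjunction (R := CommRingCat.of A)).unit.app M).hom m

theorem unitSec_add (m m' : M) : unitSec A M (m + m') = unitSec A M m + unitSec A M m' :=
  map_add _ m m'

theorem unitSec_smul (a : A) (m : M) :
    unitSec A M (a • m) = ((Scheme.ΓSpecIso (CommRingCat.of A)).inv.hom a) • unitSec A M m := by
  have := ((tilde.adjunction (R := CommRingCat.of A)).unit.app M).hom.map_smul a m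
  exact this

/-- the section of `f^*(M~)` over `U` attached to `m` -/
noncomputable def pullM (U : X.Opens) (m : M) : Γ(pullTilde A M, U) :=
  pullSectLE (X ↘ Spec (CommRingCat.of A)) ((tilde.functor (CommRingCat.of A)).obj M) ⊤ U le_top
    (unitSec A M m)

theorem pullM_add (U : X.Opens) (m m' : M) :
    pullM A M U (m + m') = pullM A M U m + pullM A M U m' := by
  unfold pullM pullSectLE
  rw [unitSec_add, map_add, map_add]

theorem pullM_smul (U : X.Opens) (a : A) (m : M) :
    pullM A M U (a • m) = secRing A U a • pullM A M U m := by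
  unfold pullM
  rw [unitSec_smul, pullSectLE_smul]
  rfl

theorem pullM_res {U V : X.Opens} (i : V ⟶ U) (m : M) :
    (pullTilde A M).presheaf.map i.op (pullM A M U m) = pullM A M V m :=
  pullSectLE_res _ _ _ _ _ _ (leOfHom i) _

theorem pullM_naturality {N : ModuleCat.{u} A} (g : M ⟶ N) (U : X.Opens) (m : M) :
    ((Scheme.Modules.pullback (X ↘ Spec (CommRingCat.of A))).map
      ((tilde.functor (CommRingCat.of A)).map g)).app U (pullM A M U m) =
      pullM A N U (g.hom m) := by
  unfold pullM
  rw [pullSectLE_naturality]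
  congr 1
  have h := (tilde.adjunction (R := CommRingCat.of A)).unit.naturality g
  exact congr($h m).symm

/-- the pairing `(s, m) ↦ m ⊗ s` -/
noncomputable def thetaBil (U : X.Opens) : Sec A F U →ₗ[A] M →ₗ[A] Sec A (GM A F M) U :=
  LinearMap.mk₂ A
    (fun s m => Sec.ofSec A (GM A F M)
      (tm (pullTilde A M) F U (pullM A M U m) (Sec.toSec A F s)))
    (fun s s' m => by
      rw [Sec.toSec_add, tm_add_right, Sec.ofSec_add])
    (fun a s m => by
      rw [Sec.toSec_smul, tm_smul_right, Sec.ofSec_smul])
    (fun s m m' => by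
      rw [pullM_add, tm_add_left, Sec.ofSec_add])
    (fun a s m => by
      rw [pullM_smul, tm_smul_left, Sec.ofSec_smul])

/-- the canonical map `Γ(F, U) ⊗_A M → Γ(f^*(M~) ⊗ F, U)` -/
noncomputable def theta (U : X.Opens) : Sec A F U ⊗[A] M →ₗ[A] Sec A (GM A F M) U :=
  TensorProduct.lift (thetaBil A F M U)

theorem theta_tmul (U : X.Opens) (s : Sec A F U) (m : M) :
    Sec.toSec A (GM A F M) (theta A F M U (s ⊗ₜ[A] m)) =
      tm (pullTilde A M) F U (pullM A M U m) (Sec.toSec A F s) := rfl

theorem theta_res {U V : X.Opens} (i : V ⟶ U) (x : Sec A F U ⊗[A] M) :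
    secRes A (GM A F M) i (theta A F M U x) =
      theta A F M V ((secRes A F i).rTensor M x) := by
  induction x using TensorProduct.induction_on with
  | zero => rw [map_zero, map_zero, map_zero, map_zero]
  | tmul s m =>
    apply Sec.toSec_injective A (GM A F M)
    rw [secRes_apply, theta_tmul, LinearMap.rTensor_tmul, theta_tmul, tm_res, pullM_res,
      secRes_apply]
  | add x y hx hy => rw [map_add, map_add, hx, hy, map_add, map_add]

open MonoidalCategory in
/-- `θ` as a morphism of presheaves of `A`-modules -/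
noncomputable def thetaNat : secFunctor A F ⋙ tensorRight M ⟶ secFunctor A (GM A F M) where
  app U := ModuleCat.ofHom (theta A F M U.unop)
  naturality {U V} i := by
    apply ModuleCat.hom_ext
    apply TensorProduct.ext'
    intro s m
    exact (theta_res A F M i.unop (s ⊗ₜ[A] m)).symm

variable {M} in
/-- the morphism `f^*(M~) ⊗ F ⟶ f^*(N~) ⊗ F` induced by `g : M ⟶ N` -/
noncomputable def GMmap {N : ModuleCat.{u} A} (g : M ⟶ N) : GM A F M ⟶ GM A F N :=
  (CohIII.tensorAFunctor A F).map g

variable {M} in
theorem GMmap_eq {N : ModuleCat.{u} A} (g : M ⟶ N) :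
    GMmap A F g = KoszTw.tensorMap
      ((Scheme.Modules.pullback (X ↘ Spec (CommRingCat.of A))).map
        ((tilde.functor (CommRingCat.of A)).map g)) (𝟙 F) :=
  KoszTw.tensorRightMod_map _ F

variable {M} in
theorem theta_naturality {N : ModuleCat.{u} A} (g : M ⟶ N) (U : X.Opens) (x : Sec A F U ⊗[A] M) :
    secHom A (GMmap A F g) U (theta A F M U x) =
      theta A F N U (g.hom.lTensor (Sec A F U) x) := by
  induction x using TensorProduct.induction_on with
  | zero => rw [map_zero, map_zero, map_zero, map_zero]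
  | tmul s m =>
    apply Sec.toSec_injective A (GM A F N)
    rw [secHom_apply, theta_tmul, LinearMap.lTensor_tmul, theta_tmul, GMmap_eq]
    have h := KoszTw.tensorMap_tmul
      ((Scheme.Modules.pullback (X ↘ Spec (CommRingCat.of A))).map
        ((tilde.functor (CommRingCat.of A)).map g)) (𝟙 F) U (pullM A M U m) (Sec.toSec A F s)
    rw [pullM_naturality] at h
    exact h
  | add x y hx hy => rw [map_add, map_add, hx, hy, map_add, map_add]

section Bijective

variable {U : X.Opens} (hU : IsAffineOpen U)

/-- the ring isomorphism `A ≃ Γ(Spec A, ⊤)` -/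
noncomputable def sigmaA : A ≃+* Γ(Spec (CommRingCat.of A), ⊤) :=
  (Scheme.ΓSpecIso (CommRingCat.of A)).symm.commRingCatIsoToRingEquiv

theorem sigmaA_apply (a : A) :
    sigmaA A a = (Scheme.ΓSpecIso (CommRingCat.of A)).inv.hom a := rfl

/-- `M ≃ Γ(M~, ⊤)` -/
noncomputable def etaM : M ≃+ Γ((tilde.functor (CommRingCat.of A)).obj M, ⊤) :=
  AddEquiv.ofBijective
    (AddMonoidHom.mk' (unitSec A M) (unitSec_add A M))
    (by
      have h : IsIso ((tilde.toTildeΓNatIso (R := CommRingCat.of A)).hom.app M) := inferInstance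
      exact ConcreteCategory.bijective_of_isIso
        ((tilde.toTildeΓNatIso (R := CommRingCat.of A)).hom.app M))

theorem etaM_apply (m : M) : etaM A M m = unitSec A M m := rfl

/-- `Γ(X, U)` as an `A`-algebra -/
@[reducible] noncomputable def secAlgebra (U : X.Opens) : Algebra A Γ(X, U) := (secRing A U).toAlgebra

attribute [local instance] secAlgebra

theorem secAlgebra_algebraMap (U : X.Opens) (a : A) :
    algebraMap A Γ(X, U) a = secRing A U a := rfl

noncomputable instance secModuleR (G : X.Modules) (U : X.Opens) : Module Γ(X, U) (Sec A G U) :=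
  inferInstanceAs (Module Γ(X, U) Γ(G, U))

theorem Sec.toSec_smulR (G : X.Modules) {U : X.Opens} (r : Γ(X, U)) (s : Sec A G U) :
    Sec.toSec A G (r • s) = r • Sec.toSec A G s := rfl

instance secTower (G : X.Modules) (U : X.Opens) : IsScalarTower A Γ(X, U) (Sec A G U) where
  smul_assoc a r s := by
    apply Sec.toSec_injective A G
    rw [Sec.toSec_smulR, Sec.toSec_smul, Sec.toSec_smulR, Algebra.smul_def, mul_smul]
    rfl

/-- `m ↦ pullM m`, `A`-linearly -/
noncomputable def pullMLin (U : X.Opens) : M →ₗ[A] Sec A (pullTilde A M) U where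
  toFun m := Sec.ofSec A (pullTilde A M) (pullM A M U m)
  map_add' m m' := by rw [pullM_add, Sec.ofSec_add]
  map_smul' a m := by rw [pullM_smul, Sec.ofSec_smul, RingHom.id_apply]

theorem pullMLin_apply (U : X.Opens) (m : M) :
    Sec.toSec A (pullTilde A M) (pullMLin A M U m) = pullM A M U m := rfl

include hU in
set_option maxRecDepth 4000 in
theorem baseChangeLift_pullMLin_bijective :
    Function.Bijective (baseChangeLift (R := Γ(X, U)) (pullMLin A M U)) := by
  let f : X ⟶ Spec (CommRingCat.of A) := X ↘ Spec (CommRingCat.of A)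
  let T : (Spec (CommRingCat.of A)).Modules := (tilde.functor (CommRingCat.of A)).obj M
  haveI : T.IsQuasicoherent :=
    inferInstanceAs (tilde (R := CommRingCat.of A) M).IsQuasicoherent
  letI alg' : Algebra Γ(Spec (CommRingCat.of A), ⊤) Γ(X, U) :=
    (f.appLE ⊤ U le_top).hom.toAlgebra
  let E := pullbackSectionsEquiv f T hU (isAffineOpen_top _) le_top
  have hE : ∀ m' : Γ(T, ⊤), E (pullSectLE f T ⊤ U le_top m') = (1 : Γ(X, U)) ⊗ₜ m' :=
    pullbackSectionsEquiv_pullSectLE f T hU (isAffineOpen_top _) le_top
  have hM : ∀ (a : A) (r : Γ(X, U)),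
      (AddEquiv.refl Γ(X, U)) (a • r) = sigmaA A a • (AddEquiv.refl Γ(X, U)) r := by
    intro a r
    change a • r = sigmaA A a • r
    rw [Algebra.smul_def, Algebra.smul_def]
    rfl
  have hN : ∀ (a : A) (m : M), etaM A M (a • m) = sigmaA A a • etaM A M m := by
    intro a m
    exact unitSec_smul A M a m
  let Θ := Groth.Agent.H71.CohBC.semilinearTensorEquiv (sigmaA A) (AddEquiv.refl Γ(X, U))
    (etaM A M) hM hN
  have key : ∀ x : Γ(X, U) ⊗[A] M,
      E (Sec.toSec A (pullTilde A M) (baseChangeLift (R := Γ(X, U)) (pullMLin A M U) x)) = Θ x := by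
    intro x
    induction x using TensorProduct.induction_on with
    | zero =>
      have h0 : baseChangeLift (R := Γ(X, U)) (pullMLin A M U) 0 = 0 := LinearMap.map_zero _
      rw [h0, Sec.toSec_zero]
      exact (LinearEquiv.map_zero E).trans (AddEquiv.map_zero Θ).symm
    | tmul r m =>
      have h1 : baseChangeLift (R := Γ(X, U)) (pullMLin A M U) (r ⊗ₜ[A] m) =
          r • pullMLin A M U m := baseChangeLift_tmul _ r m
      rw [h1, Sec.toSec_smulR, pullMLin_apply]
      have h2 : E (r • pullM A M U m) = r • E (pullM A M U m) := LinearEquiv.map_smul E r _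
      rw [h2]
      have h3 : E (pullM A M U m) = (1 : Γ(X, U)) ⊗ₜ unitSec A M m := hE (unitSec A M m)
      rw [h3, Groth.Agent.H71.CohBC.semilinearTensorEquiv_tmul, TensorProduct.smul_tmul',
        smul_eq_mul, mul_one]
      rfl
    | add x y hx hy =>
      have h1 : baseChangeLift (R := Γ(X, U)) (pullMLin A M U) (x + y) =
          baseChangeLift (R := Γ(X, U)) (pullMLin A M U) x +
            baseChangeLift (R := Γ(X, U)) (pullMLin A M U) y := LinearMap.map_add _ x y
      rw [h1, Sec.toSec_add]
      have h2 := LinearEquiv.map_add E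
        (Sec.toSec A (pullTilde A M) (baseChangeLift (R := Γ(X, U)) (pullMLin A M U) x))
        (Sec.toSec A (pullTilde A M) (baseChangeLift (R := Γ(X, U)) (pullMLin A M U) y))
      rw [h2, hx, hy]
      exact (AddEquiv.map_add Θ x y).symm
  constructor
  · intro x y hxy
    apply Θ.injective
    rw [← key, ← key, hxy]
  · intro p
    obtain ⟨x, hx⟩ := Θ.surjective (E (Sec.toSec A (pullTilde A M) p))
    refine ⟨x, ?_⟩
    apply Sec.toSec_injective A (pullTilde A M)
    apply E.injective
    rw [key, hx]

include hU in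
/-- **Sections of `f^*(M~) ⊗ F` over an affine open**: `Γ(F, U) ⊗_A M ≃ Γ(f^*(M~) ⊗ F, U)`. -/
theorem theta_bijective [F.IsQuasicoherent] : Function.Bijective (theta A F M U) := by
  have h1 := swapLift_bijective (R := Γ(X, U)) (N := Sec A F U) (pullMLin A M U)
    (baseChangeLift_pullMLin_bijective A M hU)
  haveI : ((tilde.functor (CommRingCat.of A)).obj M).IsQuasicoherent :=
    inferInstanceAs (tilde (R := CommRingCat.of A) M).IsQuasicoherent
  haveI : (pullTilde A (X := X) M).IsQuasicoherent :=
    Groth.Agent.H44.isQuasicoherent_pullback _ _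
  have h2 := Groth.Agent.H71.CohBC.tensorSections_bijective (pullTilde A M) F hU
  have h3 : ∀ x : Sec A F U ⊗[A] M, Sec.toSec A (GM A F M) (theta A F M U x) =
      Groth.Agent.H71.QCohLite.tensorSections (pullTilde A M) F U
        (swapLift (R := Γ(X, U)) (N := Sec A F U) (pullMLin A M U) x) := by
    intro x
    induction x using TensorProduct.induction_on with
    | zero =>
      rw [LinearMap.map_zero, LinearMap.map_zero, Sec.toSec_zero]
      exact (LinearMap.map_zero _).symm
    | tmul s m =>
      rw [theta_tmul, swapLift_tmul]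
      rfl
    | add x y hx hy =>
      rw [LinearMap.map_add, Sec.toSec_add, hx, hy, LinearMap.map_add]
      exact (LinearMap.map_add _ _ _).symm
  constructor
  · intro x y hxy
    apply h1.1
    apply h2.1
    rw [← h3, ← h3, hxy]
  · intro t
    obtain ⟨z, hz⟩ := h2.2 (Sec.toSec A (GM A F M) t)
    obtain ⟨x, hx⟩ := h1.2 z
    refine ⟨x, ?_⟩
    apply Sec.toSec_injective A (GM A F M)
    rw [h3, hx, hz]

end Bijective

end Groth.Agent.H85.BC
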